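import Cfsg.Agent.Lib.ZassAbelian.Bound
import Cfsg.Agent.Lib.ZassPSL.Main
import Cfsg.Agent.Lib.Zass.Sharp
import Cfsg.Agent.Lib.Zass.OddStab
import Cfsg.Agent.S0738
import Cfsg.Agent.S0741
import Cfsg.Agent.S0742

/-!
# Zassenhaus groups with abelian kernel
-/

set_option autoImplicit false
set_option linter.unusedSectionVars false
set_option linter.style.haveILetI false

open MulAction

namespace CfsgLib.ZassAbelian

open CfsgLib CfsgLib.Zass

universe u v

variable {G : Type u} [Group G] [Finite G] {Ω : Type v} [MulAction G Ω] [Fintype Ω]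

theorem hnil_of_eq (hZ : Cfsg.IsZassenhausGroup G Ω) {a b : Ω} (hab : a ≠ b) {K : Subgroup G}
    (hK : Pre.IsKernel a K) (hKc : ∀ x ∈ K, ∀ y ∈ K, x * y = y * x)
    (hd : 2 * Nat.card ↥(stabilizer G a ⊓ stabilizer G b) = Fintype.card Ω - 2)
    (hodd : Odd (Nat.card ↥(stabilizer G a ⊓ stabilizer G b)))
    (q : ℕ) (hq : q.Prime) (hqd : q ∣ Nat.card ↥(stabilizer G a ⊓ stabilizer G b)) :
    ¬ ∃ N : Subgroup G, N.Normal ∧ N.index = q ^ (Nat.card G).factorization q := by
  rintro ⟨N, hN, hi⟩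
  haveI := hN
  have hP := Pre.of hZ
  haveI := Fact.mk hq
  have hNb : N ≠ ⊥ := by
    intro h
    rw [h, Subgroup.index_bot] at hi
    have h2 : 2 ∣ Nat.card G := hP.two_dvd_card hab
    rw [hi] at h2
    have := (Nat.prime_dvd_prime_iff_eq Nat.prime_two hq).1 (Nat.prime_two.dvd_of_dvd_pow h2)
    rw [← this] at hqd
    exact Nat.not_even_iff_odd.2 hodd (even_iff_two_dvd.2 hqd)
  have hcop : ¬ q ∣ Nat.card N := by
    intro h
    have h1 := N.index_mul_card
    rw [hi] at h1
    have h2 : q ^ ((Nat.card G).factorization q + 1) ∣ Nat.card G := by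
      rw [pow_succ]
      have h3 := mul_dvd_mul_left (q ^ (Nat.card G).factorization q) h
      rwa [h1] at h3
    exact Nat.pow_succ_factorization_not_dvd Nat.card_pos.ne' hq h2
  have hZN := Pre.isZassenhausGroup_normal hZ N hNb
  obtain ⟨-, -, hker⟩ := Pre.normal_structure hZ N hNb
  have hKN : K ≤ N := hker a K hK
  have hK' : Pre.IsKernel a (K.subgroupOf N) :=
    { le := fun k hk => hK.le (k : G) hk
      conj_mem := fun g hg k hk => hK.conj_mem (g : G) hg (k : G) hk
      fix := fun k hk h1 c hc => hK.fix (k : G) hk (fun h => h1 (Subtype.ext h)) c hc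
      regular := fun y z hy hz => by
        obtain ⟨k, hk, hky⟩ := hK.regular y z hy hz
        exact ⟨⟨k, hKN hk⟩, hk, hky⟩
      mem := fun g hg h => hK.mem (g : G) hg h }
  have h1 : (stabilizer N a ⊓ stabilizer N b).map N.subtype ≤ stabilizer G a ⊓ stabilizer G b := by
    rintro _ ⟨x, hx, rfl⟩
    exact ⟨hx.1, hx.2⟩
  have hdvd := Subgroup.card_dvd_of_le h1
  rw [Subgroup.card_map_of_injective N.subtype_injective] at hdvd
  have hb := card_sub_two_le hZN hab hK' (fun x hx y hy => Subtype.ext (hKc x hx y hy))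
    (hodd.of_dvd_nat hdvd)
  have hle := Nat.le_of_dvd hodd.pos hdvd
  have heq : Nat.card ↥(stabilizer N a ⊓ stabilizer N b) =
      Nat.card ↥(stabilizer G a ⊓ stabilizer G b) := by omega
  exact hcop (hqd.trans (heq ▸ Subgroup.card_subgroup_dvd_card _))

theorem classification (hZ : Cfsg.IsZassenhausGroup G Ω) {a : Ω} {K : Subgroup G}
    (hK : Pre.IsKernel a K) (hKc : ∀ x ∈ K, ∀ y ∈ K, x * y = y * x) :
    (MulAction.IsMultiplyPretransitive G Ω 3 ∧ ∀ t : Fin 3 ↪ Ω, MulAction.stabilizer G t = ⊥) ∨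
      ∃ (F : Type) (_ : Field F) (_ : Fintype F), ringChar F ≠ 2 ∧
        Nonempty (G ≃* Matrix.ProjectiveSpecialLinearGroup (Fin 2) F) := by
  classical
  have hP := Pre.of hZ
  obtain ⟨b, hb⟩ := hP.exists_ne a
  have hab : a ≠ b := hb.symm
  have h3 := hP.three_le_card
  have h1 : Fintype.card Ω - 2 ≤ 2 * Nat.card ↥(stabilizer G a ⊓ stabilizer G b) := by
    rcases Nat.even_or_odd (Nat.card ↥(stabilizer G a ⊓ stabilizer G b)) with h | h
    · exact Cfsg.Agent.S0741.result hZ hab h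
    · exact card_sub_two_le hZ hab hK hKc h
  obtain ⟨c, hc⟩ := hP.card_dvd_sub_two hab
  have hpos : 0 < Nat.card ↥(stabilizer G a ⊓ stabilizer G b) := Nat.card_pos
  have hc2 : c ≤ 2 := by
    refine Nat.le_of_mul_le_mul_left ?_ hpos
    rw [← hc, mul_comm]; exact h1
  interval_cases c
  · omega
  · refine Or.inl ?_
    obtain ⟨hS, -⟩ := hP.isS3_of_sharp (fun x y hxy => by
      rw [hP.card_pair_eq hxy hab, hc, mul_one])
    exact ⟨hS.trans, hS.sharp⟩
  · refine Or.inr ?_
    have hd : 2 * Nat.card ↥(stabilizer G a ⊓ stabilizer G b) = Fintype.card Ω - 2 := by omega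
    obtain ⟨hKc', p, f, hp, -, hα⟩ := Cfsg.Agent.S0738.result hZ hab h1 K
      (fun k hk => hK.le k hk) ⟨fun x hx g => hK.conj_mem (g : G) g.2 (x : G) hx⟩
      (fun y z hy hz => by
        obtain ⟨k, hk, hky⟩ := hK.regular y z hy hz
        exact ⟨⟨k, hk⟩, hky, fun k' hk' => Subtype.ext (hK.inj hy k'.2 hk (hk'.trans hky.symm))⟩)
    have hcard := hK.card hP
    have hp' : p ≠ 2 → ∀ {F : Type} [Field F] [Fintype F], Fintype.card F = p ^ f → ringChar F ≠ 2 := by
      intro hp2 F _ _ hF h2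
      have := FiniteField.even_card_of_char_two h2
      rw [hF] at this
      rcases Nat.eq_zero_or_pos f with rfl | hf
      · simp at this
      · exact hp2 (((Nat.prime_dvd_prime_iff_eq Nat.prime_two hp).1
          (Nat.prime_two.dvd_of_dvd_pow (Nat.dvd_of_mod_eq_zero this))).symm)
    rcases Nat.even_or_odd (Nat.card ↥(stabilizer G a ⊓ stabilizer G b)) with heven | hodd
    · obtain ⟨q, g, F, iF, iFF, hq, hq2, hF, hΩ, hiso⟩ :=
        Cfsg.Agent.S0742.result hZ hab heven (by omega)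
      refine ⟨F, iF, iFF, fun h2 => ?_, hiso⟩
      have := FiniteField.even_card_of_char_two h2
      rw [hF] at this
      rcases Nat.eq_zero_or_pos g with rfl | hg
      · simp at this
      · exact hq2 (((Nat.prime_dvd_prime_iff_eq Nat.prime_two hq).1
          (Nat.prime_two.dvd_of_dvd_pow (Nat.dvd_of_mod_eq_zero this))).symm)
    · obtain ⟨-, -, hinv⟩ := hP.odd_stab hab hodd (hnil_of_eq hZ hab hK hKc hd hodd)
      obtain ⟨s, -, hss, hsa, hsb⟩ := hP.exists_swap (hP.two_dvd_card hab) hab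
      obtain ⟨F, iF, iFF, hF, hp2, -, hiso⟩ := CfsgLib.ZassPSL.exists_mulEquiv_psl hP hab K hK hKc hp
        (show Nat.card K = p ^ f by omega) (by omega) hsa hsb hss (hinv s hsa hsb)
      exact ⟨F, iF, iFF, hp' hp2 hF, hiso⟩

end CfsgLib.ZassAbelian
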