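import Cfsg.Agent.Lib.ZassAbelian.Series
import Cfsg.Agent.Lib.CA.EvenOrder
import Cfsg.Agent.Lib.Char.Conj

/-!
# An abelian kernel forces a large two-point stabiliser
-/

set_option autoImplicit false
set_option linter.unusedSectionVars false
set_option linter.style.haveILetI false

open MulAction
open scoped ComplexConjugate

namespace CfsgLib.ZassAbelian

open CfsgLib CfsgLib.Zass CfsgLib.ZassOdd

universe u v

section Res

variable {G : Type u} [Group G] [Fintype G] {K : Subgroup G} [Fintype K] (hK : CA.SelfCent K)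
include hK

theorem exists_mult_data (χ : Cfsg.IrrCharacter G) :
    ∃ (m0 : ℕ) (m : CA.NP K → ℕ) (d : ℕ),
      Cfsg.classInner (fun _ : K => (1 : ℂ)) (fun k : K => (χ : G → ℂ) k) = m0 ∧
      (∀ l : CA.NP K,
        Cfsg.classInner (l.1 : K → ℂ) (fun k : K => (χ : G → ℂ) k) = m l) ∧
      (χ : G → ℂ) 1 = d ∧ d = m0 + ∑ l, m l ∧ 0 < d ∧
      Cfsg.classInner (fun k : K => (χ : G → ℂ) k) (fun k : K => (χ : G → ℂ) k) =
        ((m0 ^ 2 + ∑ l, m l ^ 2 : ℕ) : ℂ) := by
  classical
  have hres : Cfsg.IsCharacter K (fun k : K => (χ : G → ℂ) k) :=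
    Char.IsCharacter.restrict (Char.IsIrrCharacter.isCharacter χ.2) K
  obtain ⟨n, hn⟩ := Char.IsCharacter.exists_nat_combination hres
  have hn' : ∀ l : Cfsg.IrrCharacter K,
      Cfsg.classInner (l : K → ℂ) (fun k : K => (χ : G → ℂ) k) = n l := by
    intro l
    rw [← Char.classInner_conj_symm, hn,
      Char.classInner_sum_smul_irr (fun φ => (n φ : ℂ)) l, Complex.conj_natCast]
  obtain ⟨d, hd0, hd⟩ := Char.IsIrrCharacter.exists_degree χ.2
  have hsplit : ∀ f : Cfsg.IrrCharacter K → ℕ,
      ∑ l, f l = f Char.principalIrr + ∑ l : CA.NP K, f l.1 := by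
    intro f
    rw [← Finset.add_sum_erase _ _ (Finset.mem_univ Char.principalIrr),
      ← Finset.sum_subtype (Finset.univ.erase Char.principalIrr) (by simp) f]
  refine ⟨n Char.principalIrr, fun l => n l.1, d, ?_, fun l => hn' l.1, hd, ?_, hd0, ?_⟩
  · exact hn' Char.principalIrr
  · have h1 := congrFun hn 1
    simp only [Finset.sum_apply, Pi.smul_apply, smul_eq_mul, CA.irr_apply_one hK, mul_one,
      OneMemClass.coe_one, hd] at h1
    rw [← hsplit n]
    exact_mod_cast h1
  · rw [hn, Char.classInner_sum_smul_sum_smul (fun φ => (n φ : ℂ)) (fun φ => (n φ : ℂ)),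
      ← hsplit (fun φ => n φ ^ 2)]
    push_cast
    simp [sq]

/-- A function constant off the identity has equal nonprincipal multiplicities. -/
theorem classInner_eq_of_const (f : K → ℂ) (c : ℂ) (hf : ∀ k : K, k ≠ 1 → f k = c)
    (l l' : CA.NP K) :
    Cfsg.classInner (l.1 : K → ℂ) f = Cfsg.classInner (l'.1 : K → ℂ) f := by
  classical
  have key : ∀ m : CA.NP K,
      Cfsg.classInner (m.1 : K → ℂ) f = (Nat.card K : ℂ)⁻¹ * conj (f 1 - c) := by
    intro m
    have h0 : Cfsg.classInner (m.1 : K → ℂ) (Char.principalIrr : Cfsg.IrrCharacter K).1 = 0 :=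
      Char.classInner_irr_of_ne m.1.2 Char.principalIrr.2 fun h => m.2 (Subtype.ext h)
    have hdec : f = c • ((Char.principalIrr : Cfsg.IrrCharacter K).1) +
        fun k : K => if k = 1 then f 1 - c else 0 := by
      funext k
      by_cases hk : k = 1
      · subst hk; simp
      · simp [hk, hf k hk]
    rw [hdec, Char.classInner_add_right, Char.classInner_smul_right, h0, mul_zero, zero_add]
    unfold Cfsg.classInner
    rw [Finset.sum_eq_single (1 : K) (fun k _ hk => by simp [hk]) (by simp)]
    simp [CA.irr_apply_one hK]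
  rw [key, key]

theorem card_np : Nat.card (CA.NP K) + 1 = Nat.card K := by
  classical
  rw [← CA.card_irrA hK, Nat.card_eq_fintype_card, Nat.card_eq_fintype_card,
    Fintype.card_subtype_compl, Fintype.card_subtype_eq]
  have : 0 < Fintype.card (Cfsg.IrrCharacter K) := Fintype.card_pos_iff.2 ⟨Char.principalIrr⟩
  omega

end Res

theorem simple_bound {G : Type u} {Ω : Type v} [Group G] [MulAction G Ω] [Fintype Ω] [Finite G]
    [IsSimpleGroup G] (hZ : Cfsg.IsZassenhausGroup G Ω) {a b : Ω} (hab : a ≠ b) {K : Subgroup G}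
    (hK : Pre.IsKernel a K) (hKc : ∀ x ∈ K, ∀ y ∈ K, x * y = y * x)
    (hodd : Odd (Nat.card ↥(stabilizer G a ⊓ stabilizer G b))) :
    Fintype.card Ω - 2 ≤ 2 * Nat.card ↥(stabilizer G a ⊓ stabilizer G b) := by
  classical
  haveI := Fintype.ofFinite G
  haveI := Fintype.ofFinite K
  obtain ⟨e, he⟩ : ∃ e, Nat.card ↥(stabilizer G a ⊓ stabilizer G b) = e := ⟨_, rfl⟩
  rw [he]
  have hP := Pre.of hZ
  have hO : Odds G Ω e := Odds.of_simple hZ hab he (he ▸ hodd)
  obtain ⟨hEcyc, -⟩ := Pre.two_point_cyclic hZ hab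
  haveI : IsCyclic (pairStab (G := G) a b) := hEcyc
  have hEcomm : ∀ x ∈ pairStab (G := G) a b, ∀ y ∈ pairStab (G := G) a b, x * y = y * x := by
    intro x hx y hy
    haveI : IsMulCommutative (pairStab (G := G) a b) := IsCyclic.isMulCommutative
    exact congrArg Subtype.val
      (mul_comm' (⟨x, hx⟩ : pairStab (G := G) a b) ⟨y, hy⟩)
  have hE := selfCent_pairStab hO hab hEcomm
  have hKs := selfCent_kernel hP hK hab.symm hKc
  obtain ⟨π, hπK, hπE⟩ := exists_proj hP hK hab.symm
  set h := Nat.card K with hh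
  have hΩ : Fintype.card Ω = h + 1 := (hK.card hP).symm
  by_contra hlt
  push Not at hlt
  have he3 : 2 ≤ e := by
    obtain ⟨g, hg1, ga, gb⟩ := hP.exists_two_fix hab
    have h2 : 1 < Nat.card ↥(stabilizer G a ⊓ stabilizer G b) :=
      Finite.one_lt_card_iff_nontrivial.2 ⟨⟨⟨g, ga, gb⟩, 1, fun h => hg1 (congrArg Subtype.val h)⟩⟩
    omega
  have hN : Subgroup.normalizer (K : Set G) = stabilizer G a :=
    CharDeep.Zas.normalizer_kernel hZ a K (fun k hk => hK.le k hk) (hK.card hP) hK.fix
  haveI : Fintype (Subgroup.normalizer (K : Set G)) := Fintype.ofFinite _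
  have hNcard : Nat.card (Subgroup.normalizer (K : Set G)) = h * e := by
    rw [hN, hP.card_stabilizer hab, he, hΩ, Nat.add_sub_cancel]
  -- the orbits of characters of the kernel
  have horb : ∀ l : CA.NP K,
      (Finset.univ.filter fun m : CA.NP K => CA.orb K l = CA.orb K m).card = e := by
    intro l
    have h1 : (h : ℂ) *
        ((Finset.univ.filter fun m : CA.NP K => CA.orb K l = CA.orb K m).card : ℂ) =
        (h : ℂ) * e := by
      rw [← Finset.sum_boole, Finset.mul_sum,
        Finset.sum_congr rfl (fun m _ => CA.card_mul_orb_eq hKs l m), Finset.sum_comm]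
      simp only [Finset.sum_ite_eq, Finset.mem_univ, if_true, Finset.sum_const, nsmul_one,
        Finset.card_univ, ← Nat.card_eq_fintype_card, hNcard, Nat.cast_mul]
    exact_mod_cast mul_left_cancel₀ (Nat.cast_ne_zero.2 Nat.card_pos.ne') h1
  set t := Fintype.card (CA.Orb K) with ht
  have hte : t * e + 1 = h := by
    have h1 : Fintype.card (CA.NP K) = t * e := by
      rw [← Finset.card_univ, Finset.card_eq_sum_card_fiberwise (f := CA.orb K)
        (t := Finset.univ) (fun _ _ => Finset.mem_univ _),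
        Finset.sum_const_nat (m := e) (fun o _ => ?_), Finset.card_univ]
      obtain ⟨l, rfl⟩ := Quotient.exists_rep o
      rw [← horb l]
      congr 1
      ext m
      simp only [Finset.mem_filter, Finset.mem_univ, true_and]
      exact eq_comm
    have h2 := card_np hKs
    rw [Nat.card_eq_fintype_card, h1] at h2
    exact h2
  have ht2 : 2 ≤ t := by
    by_contra ht1
    have := Nat.mul_le_mul_right e (show t ≤ 1 by omega)
    omega
  obtain ⟨ε, μ, hε, hμinj, hτ⟩ := CA.Even.exists_exceptional hKs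
  obtain ⟨z, hz, hzε⟩ : ∃ z : ℤ, (z = 1 ∨ z = -1) ∧ ε = (z : ℂ) := by
    rcases hε with h | h
    · exact ⟨1, Or.inl rfl, by simp [h]⟩
    · exact ⟨-1, Or.inr rfl, by simp [h]⟩
  choose m0 m d hm0 hm hd hdsum hdpos hnorm using exists_mult_data hKs (G := G)
  have hdiff : ∀ (χ : Cfsg.IrrCharacter G) (l l' : CA.NP K),
      (m χ l : ℤ) - m χ l' = z * ((if μ (CA.orb K l) = χ then 1 else 0) -
        (if μ (CA.orb K l') = χ then 1 else 0)) := by
    intro χ l l'
    have h1 := congrArg (fun f => Cfsg.classInner f (χ : G → ℂ)) (hτ l l')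
    simp only [Char.classInner_sub_left, Char.classInner_smul_left,
      Char.classInner_indFun _ _ _ (Char.IsIrrCharacter.isClassFunction χ.2), hm,
      Char.classInner_irrCharacter, hzε] at h1
    exact_mod_cast h1
  have hconst : ∀ (χ : Cfsg.IrrCharacter G) (c : ℂ),
      (∀ k : K, k ≠ 1 → (χ : G → ℂ) k = c) → ∀ o, μ o ≠ χ := by
    intro χ c hc o ho
    obtain ⟨l, rfl⟩ := Quotient.exists_rep o
    obtain ⟨o', ho'⟩ : ∃ o' : CA.Orb K, o' ≠ Quotient.mk _ l :=
      Fintype.exists_ne_of_one_lt_card (by omega) _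
    obtain ⟨l', rfl⟩ := Quotient.exists_rep o'
    have h1 := hdiff χ l l'
    have h2 : (m χ l : ℤ) = m χ l' := by
      have := classInner_eq_of_const hKs (fun k : K => (χ : G → ℂ) k) c hc l l'
      rw [hm, hm] at this
      exact_mod_cast this
    rw [if_pos ho, if_neg (fun h' => ho' (hμinj (h'.trans ho.symm))), h2] at h1
    rcases hz with rfl | rfl <;> simp at h1
  -- the series
  let L : Cfsg.IrrCharacter (pairStab (G := G) a b) → G → ℂ := fun l => lam π l
  have hLi := fun l hl => lam_irr π hO hK hab hE hπK hπE l hl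
  let St : Cfsg.IrrCharacter G := ⟨_, steinberg_irr π hO hK hab hE hπK hπE⟩
  have hStK : ∀ k : K, k ≠ 1 → (St : G → ℂ) k = 0 := by
    intro k hk
    have : (fixPts (k : G) : Finset Ω) = {a} := by
      ext c
      rw [mem_fixPts, Finset.mem_singleton]
      exact ⟨hK.fix k k.2 (fun h => hk (Subtype.ext h)) c, fun h => h ▸ hK.le k k.2⟩
    show ((fixPts (k : G) : Finset Ω).card : ℂ) - 1 = 0
    rw [this, Finset.card_singleton, Nat.cast_one, sub_self]
  have hfix1 : (fixPts (1 : G) : Finset Ω) = Finset.univ := fixPts_one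
  have hdSt : d St = h := by
    have h1 := hd St
    change ((fixPts (1 : G) : Finset Ω).card : ℂ) - 1 = _ at h1
    rw [hfix1, Finset.card_univ, hΩ, Nat.cast_add, Nat.cast_one, add_sub_cancel_right] at h1
    exact_mod_cast h1.symm
  have hd1 : d Char.principalIrr = 1 := by
    have h1 := hd Char.principalIrr
    rw [Char.principalIrr_apply] at h1
    exact_mod_cast h1.symm
  have hSt1 : St ≠ Char.principalIrr := fun h' => by
    rw [h'] at hdSt
    omega
  have hm0sum : ∀ χ : Cfsg.IrrCharacter G, (m0 χ : ℂ) =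
      (if Char.principalIrr = χ then 1 else 0) + (if St = χ then 1 else 0) +
        ((Finset.univ.filter fun l : Cfsg.IrrCharacter (pairStab (G := G) a b) =>
          l ≠ Char.principalIrr ∧ L l = (χ : G → ℂ)).card : ℂ) := by
    intro χ
    have h0 : Cfsg.classInner (L Char.principalIrr) (χ : G → ℂ) =
        (if Char.principalIrr = χ then 1 else 0) + (if St = χ then 1 else 0) := by
      have e1 : L Char.principalIrr = (Char.principalIrr : Cfsg.IrrCharacter G).1 + (St : G → ℂ) := by
        funext g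
        rw [Pi.add_apply, Char.principalIrr_apply]
        show lam π Char.principalIrr g = 1 + (((fixPts g : Finset Ω).card : ℂ) - 1)
        rw [lam_one_eq π hO hK hab hE hπK hπE g]
        ring
      rw [e1, Char.classInner_add_left, Char.classInner_irrCharacter, Char.classInner_irrCharacter]
    rw [← hm0 χ, classInner_one_res π hO hK hab hE hπK hπE (Char.IsIrrCharacter.isClassFunction χ.2),
      ← Finset.add_sum_erase _ _ (Finset.mem_univ Char.principalIrr)]
    show Cfsg.classInner (L Char.principalIrr) (χ : G → ℂ) + _ = _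
    rw [h0, ← Finset.sum_boole]
    congr 1
    rw [← Finset.add_sum_erase (Finset.univ) _ (Finset.mem_univ Char.principalIrr)]
    simp only [ne_eq, not_true_eq_false, false_and, if_false, zero_add]
    refine Finset.sum_congr rfl fun l hl => ?_
    have hl' := (Finset.mem_erase.1 hl).1
    show Cfsg.classInner (L l) (χ : G → ℂ) = _
    have h3 := Char.classInner_irrCharacter (⟨L l, (hLi l hl').1⟩ : Cfsg.IrrCharacter G) χ
    rw [h3]
    refine if_congr ⟨fun h' => ⟨hl', congrArg Subtype.val h'⟩, fun h' => Subtype.ext h'.2⟩ rfl rfl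
  let Sp : Finset (Cfsg.IrrCharacter G) := Finset.univ.image μ
  have hone_notMem : Char.principalIrr ∉ Sp := by
    intro h'
    obtain ⟨o, -, ho⟩ := Finset.mem_image.1 h'
    exact hconst _ 1 (fun k _ => Char.principalIrr_apply _) o ho
  have hSt_notMem : St ∉ Sp := by
    intro h'
    obtain ⟨o, -, ho⟩ := Finset.mem_image.1 h'
    exact hconst _ 0 hStK o ho
  have hm0μ : ∀ o, m0 (μ o) = 0 := by
    intro o
    have h1 := hm0sum (μ o)
    rw [if_neg (fun h' : Char.principalIrr = μ o => hone_notMem (by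
        rw [h']; exact Finset.mem_image_of_mem _ (Finset.mem_univ o))),
      if_neg (fun h' : St = μ o => hSt_notMem (by
        rw [h']; exact Finset.mem_image_of_mem _ (Finset.mem_univ o))),
      Finset.card_eq_zero.2 (Finset.filter_eq_empty_iff.2 fun l _ hl =>
        hconst (μ o) 1 (fun k hk => by
          rw [← hl.2]
          exact (hLi l hl.1).2.1 k k.2 (fun h' => hk (Subtype.ext h'))) o rfl)] at h1
    simpa using h1
  -- the sum over the nontrivial kernel elements
  let S : Cfsg.IrrCharacter G → ℤ := fun χ =>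
    (h : ℤ) * ((m0 χ : ℤ) ^ 2 + ∑ l, (m χ l : ℤ) ^ 2) - (d χ : ℤ) ^ 2
  have hScast : ∀ χ : Cfsg.IrrCharacter G, (S χ : ℂ) =
      ∑ k ∈ Finset.univ.erase (1 : K), (χ : G → ℂ) k * conj ((χ : G → ℂ) k) := by
    intro χ
    have h1 := hnorm χ
    unfold Cfsg.classInner at h1
    rw [inv_mul_eq_iff_eq_mul₀ (Nat.cast_ne_zero.2 Nat.card_pos.ne'),
      ← Finset.add_sum_erase _ _ (Finset.mem_univ (1 : K))] at h1
    simp only [OneMemClass.coe_one, hd, Complex.conj_natCast] at h1
    simp only [S]
    push_cast at h1 ⊢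
    linear_combination -h1
  have hStot : ∑ χ, S χ = (h : ℤ) * ((h : ℤ) - 1) := by
    have h1 : ((∑ χ, S χ : ℤ) : ℂ) = (h : ℂ) * ((h : ℂ) - 1) := by
      rw [Int.cast_sum, Finset.sum_congr rfl (fun χ _ => hScast χ), Finset.sum_comm,
        Finset.sum_congr rfl (fun k hk => ?_), Finset.sum_const,
        Finset.card_erase_of_mem (Finset.mem_univ _), Finset.card_univ, ← Nat.card_eq_fintype_card,
        nsmul_eq_mul, ← hh, Nat.cast_sub (Nat.card_pos (α := K)), Nat.cast_one]
      · exact mul_comm _ _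
      · rw [Char.sum_mul_conj, if_pos (IsConj.refl _),
          hKs.centralizer_eq k k.2 (fun h' => (Finset.mem_erase.1 hk).1 (Subtype.ext h'))]
    exact_mod_cast h1
  have hSconst : ∀ χ : Cfsg.IrrCharacter G, (∀ k : K, k ≠ 1 → (χ : G → ℂ) k = 1) →
      S χ = (h : ℤ) - 1 := by
    intro χ hc
    have h1 : (S χ : ℂ) = (h : ℂ) - 1 := by
      rw [hScast χ, Finset.sum_congr rfl (fun k hk => by rw [hc k (Finset.mem_erase.1 hk).1]),
        Finset.sum_const, Finset.card_erase_of_mem (Finset.mem_univ _), Finset.card_univ,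
        ← Nat.card_eq_fintype_card, ← hh, map_one, mul_one, nsmul_one,
        Nat.cast_sub (Nat.card_pos (α := K)), Nat.cast_one]
    exact_mod_cast h1
  have hh1 : (0 : ℤ) ≤ (h : ℤ) - 1 := by omega
  have hlow : ∀ χ : Cfsg.IrrCharacter G, χ ∉ Sp → χ ≠ St → (h : ℤ) - 1 ≤ S χ := by
    intro χ hχ hχSt
    by_cases h0 : m0 χ = 0
    · -- constant multiplicities
      obtain ⟨l₀⟩ := CA.nonempty_np hKs
      have hml : ∀ l, m χ l = m χ l₀ := fun l => by
        have h1 := hdiff χ l l₀
        rw [if_neg (fun h' : μ (CA.orb K l) = χ => hχ (by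
            rw [← h']; exact Finset.mem_image_of_mem _ (Finset.mem_univ _))),
          if_neg (fun h' : μ (CA.orb K l₀) = χ => hχ (by
            rw [← h']; exact Finset.mem_image_of_mem _ (Finset.mem_univ _))), sub_self,
          mul_zero] at h1
        omega
      have hcard : (Fintype.card (CA.NP K) : ℤ) = (h : ℤ) - 1 := by
        have := card_np hKs
        rw [Nat.card_eq_fintype_card] at this
        omega
      have hdc : (d χ : ℤ) = ((h : ℤ) - 1) * m χ l₀ := by
        rw [hdsum χ, h0, zero_add, Finset.sum_congr rfl (fun l _ => hml l), Finset.sum_const,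
          Finset.card_univ, smul_eq_mul, Nat.cast_mul, hcard]
      have hc1 : (1 : ℤ) ≤ m χ l₀ := by
        rcases Nat.eq_zero_or_pos (m χ l₀) with h' | h'
        · have := hdpos χ
          rw [h', Nat.cast_zero, mul_zero] at hdc
          omega
        · exact_mod_cast h'
      simp only [S, h0, Nat.cast_zero, Finset.sum_congr rfl (fun l _ => by rw [hml l] :
        ∀ l ∈ Finset.univ, (m χ l : ℤ) ^ 2 = (m χ l₀ : ℤ) ^ 2), Finset.sum_const, Finset.card_univ,
        nsmul_eq_mul, hcard, hdc]
      nlinarith [mul_le_mul hc1 hc1 zero_le_one (by omega : (0 : ℤ) ≤ m χ l₀)]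
    · refine le_of_eq (hSconst χ fun k hk => ?_).symm
      have h1 := hm0sum χ
      by_cases hp : Char.principalIrr = χ
      · rw [← hp, Char.principalIrr_apply]
      rw [if_neg hp, if_neg (Ne.symm hχSt), zero_add, zero_add] at h1
      obtain ⟨l, hl⟩ := Finset.card_pos.1 (Nat.pos_of_ne_zero (fun h' => h0 (by
        rw [h', Nat.cast_zero] at h1; exact_mod_cast h1)))
      obtain ⟨-, hl1, hl2⟩ := Finset.mem_filter.1 hl
      rw [← hl2]
      exact (hLi l hl1).2.1 k k.2 fun h' => hk (Subtype.ext h')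
  have hSSt : S St = 0 := by
    have h1 : (S St : ℂ) = 0 := by
      rw [hScast St, Finset.sum_eq_zero fun k hk => by rw [hStK k (Finset.mem_erase.1 hk).1, zero_mul]]
    exact_mod_cast h1
  -- enough classes
  have hk : 1 + t + e ≤ Fintype.card (Cfsg.IrrCharacter G) := by
    rw [← Nat.card_eq_fintype_card, Char.card_irrCharacter]
    obtain ⟨T, hT, hTg⟩ := hO.class_bound hΩ hab
    haveI : Finite (ConjClasses G) := Finite.of_surjective ConjClasses.mk Quotient.mk_surjective
    haveI := Fintype.ofFinite (ConjClasses G)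
    let C : Finset (ConjClasses G) :=
      (Finset.univ.erase (1 : K)).image fun k : K => ConjClasses.mk (k : G)
    have hC : t ≤ C.card := by
      refine Nat.le_of_mul_le_mul_right ?_ (show 0 < e by omega)
      have h1 := Finset.card_le_mul_card_image (f := fun k : K => ConjClasses.mk (k : G))
        (Finset.univ.erase (1 : K)) e fun c hc => ?_
      · rw [Finset.card_erase_of_mem (Finset.mem_univ _), Finset.card_univ,
          ← Nat.card_eq_fintype_card, ← hh] at h1
        rw [mul_comm C.card]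
        exact le_trans (by omega) h1
      obtain ⟨x, hx, rfl⟩ := Finset.mem_image.1 hc
      haveI := Fintype.ofFinite (pairStab (G := G) a b)
      refine le_trans (Finset.card_le_card_of_injOn (fun k : K => (k : G)) (t := Finset.univ.image
        fun y : pairStab (G := G) a b => (y : G) * x * (y : G)⁻¹) ?_
        (fun p _ q _ h' => Subtype.ext h')) ?_
      · intro k hk
        rw [Finset.mem_coe, Finset.mem_filter] at hk
        obtain ⟨g, hg⟩ := isConj_iff.1 (ConjClasses.mk_eq_mk_iff_isConj.1 hk.2.symm)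
        have hga : g ∈ stabilizer G a := by
          rw [← hN]
          exact hKs.mem_normalizer_of_conj_mem x.2
            (fun h' => (Finset.mem_erase.1 hx).1 (Subtype.ext h')) (hg ▸ k.2)
        obtain ⟨q, hq, h1, h2⟩ := hK.exists_factor hab.symm (g := g) hga
        refine Finset.mem_image.2 ⟨⟨q⁻¹ * g, h1, h2⟩, Finset.mem_univ _, ?_⟩
        show q⁻¹ * g * x * (q⁻¹ * g)⁻¹ = k
        rw [show q⁻¹ * g * (x : G) * (q⁻¹ * g)⁻¹ = q⁻¹ * (g * x * g⁻¹) * q by group, hg,
          mul_assoc, hKc (k : G) k.2 q hq, inv_mul_cancel_left]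
      · refine Finset.card_image_le.trans (le_of_eq ?_)
        rw [Finset.card_univ, ← Nat.card_eq_fintype_card, he]
    have hCfix : ∀ c ∈ C, ∀ g : G, ConjClasses.mk g = c → (fixPts g : Finset Ω).card = 1 := by
      intro c hc g hg
      obtain ⟨k, hk, rfl⟩ := Finset.mem_image.1 hc
      rw [card_fixPts_of_isConj (ConjClasses.mk_eq_mk_iff_isConj.1 hg), Finset.card_eq_one]
      refine ⟨a, ?_⟩
      ext c
      rw [mem_fixPts, Finset.mem_singleton]
      exact ⟨hK.fix k k.2 (fun h' => (Finset.mem_erase.1 hk).1 (Subtype.ext h')) c,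
        fun h' => h' ▸ hK.le k k.2⟩
    have hdisj : Disjoint C T := by
      rw [Finset.disjoint_left]
      intro c hc hcT
      obtain ⟨g, rfl⟩ := ConjClasses.mk_surjective c
      exact (hTg g hcT).2 (hCfix _ hc g rfl)
    have h1C : ConjClasses.mk (1 : G) ∉ C ∪ T := by
      intro h'
      rcases Finset.mem_union.1 h' with h' | h'
      · have := hCfix _ h' 1 rfl
        rw [hfix1, Finset.card_univ] at this
        omega
      · exact (hTg 1 h').1 rfl
    have := Finset.card_le_univ (insert (ConjClasses.mk (1 : G)) (C ∪ T))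
    rw [Finset.card_insert_of_notMem h1C, Finset.card_union_of_disjoint hdisj] at this
    rw [Nat.card_eq_fintype_card]
    omega
  -- the exceptional multiplicities
  have hco : ∀ o, ∃ c : ℕ, ∀ l, (m (μ o) l : ℤ) = c + if CA.orb K l = o then z else 0 := by
    intro o
    obtain ⟨o', ho'⟩ := Fintype.exists_ne_of_one_lt_card (show 1 < Fintype.card (CA.Orb K) by omega) o
    obtain ⟨l', rfl⟩ := Quotient.exists_rep o'
    refine ⟨m (μ o) l', fun l => ?_⟩
    have h1 := hdiff (μ o) l l'
    rw [if_neg (fun h' => ho' (hμinj h'))] at h1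
    by_cases hl : CA.orb K l = o
    · rw [if_pos (congrArg μ hl)] at h1
      rw [if_pos hl]
      linear_combination h1
    · rw [if_neg (fun h' => hl (hμinj h'))] at h1
      rw [if_neg hl]
      linear_combination h1
  choose co hco using hco
  have hz2 : z ^ 2 = 1 := by rcases hz with rfl | rfl <;> rfl
  have hcardNP : (Fintype.card (CA.NP K) : ℤ) = (h : ℤ) - 1 := by
    have := card_np hKs
    rw [Nat.card_eq_fintype_card] at this
    omega
  have hofib : ∀ o : CA.Orb K, (Finset.univ.filter fun l => CA.orb K l = o).card = e := by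
    intro o
    obtain ⟨l, rfl⟩ := Quotient.exists_rep o
    rw [← horb l]
    congr 1
    ext x
    simp only [Finset.mem_filter, Finset.mem_univ, true_and]
    exact eq_comm
  have hdμ : ∀ o, (d (μ o) : ℤ) = ((h : ℤ) - 1) * co o + z * e := by
    intro o
    rw [hdsum, hm0μ, zero_add, Nat.cast_sum, Finset.sum_congr rfl (fun l _ => hco o l),
      Finset.sum_add_distrib, Finset.sum_const, Finset.card_univ, nsmul_eq_mul, hcardNP,
      ← Finset.sum_filter, Finset.sum_const, hofib, nsmul_eq_mul]
    ring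
  have hsqμ : ∀ o, ∑ l, (m (μ o) l : ℤ) ^ 2 =
      ((h : ℤ) - 1) * (co o : ℤ) ^ 2 + 2 * z * e * co o + e := by
    intro o
    have h1 : ∀ l, (m (μ o) l : ℤ) ^ 2 =
        (co o : ℤ) ^ 2 + if CA.orb K l = o then 2 * z * co o + 1 else 0 := by
      intro l
      rw [hco]
      split_ifs with hl
      · linear_combination hz2
      · ring
    rw [Finset.sum_congr rfl (fun l _ => h1 l), Finset.sum_add_distrib, Finset.sum_const,
      Finset.card_univ, nsmul_eq_mul, hcardNP, ← Finset.sum_filter, Finset.sum_const, hofib,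
      nsmul_eq_mul]
    ring
  have hSμ : ∀ o, S (μ o) =
      ((h : ℤ) - 1) * (co o : ℤ) ^ 2 + 2 * z * e * co o + e * ((h : ℤ) - e) := by
    intro o
    simp only [S, hsqμ, hdμ, hm0μ]
    push_cast
    linear_combination (-(e : ℤ) ^ 2) * hz2
  have hSp : Sp.card = t := by
    rw [Finset.card_image_of_injective _ hμinj, Finset.card_univ]
  have hc0 : ∀ o, co o = 0 := by
    have hstep : ∀ o, ((co o : ℤ) ≠ 0 → 0 < ((h : ℤ) - 1) * (co o : ℤ) ^ 2 + 2 * z * e * co o) ∧
        0 ≤ ((h : ℤ) - 1) * (co o : ℤ) ^ 2 + 2 * z * e * co o := by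
      intro o
      have hlt' : 2 * (e : ℤ) < (h : ℤ) - 1 := by omega
      rcases Nat.eq_zero_or_pos (co o) with h' | h'
      · simp [h']
      · have h1 : (1 : ℤ) ≤ co o := by exact_mod_cast h'
        have : 0 < ((h : ℤ) - 1) * (co o : ℤ) ^ 2 + 2 * z * e * co o := by
          rcases hz with rfl | rfl <;> nlinarith [mul_le_mul_of_nonneg_left (show (co o : ℤ) ≤ (co o : ℤ) ^ 2 by nlinarith) hh1,
            mul_lt_mul_of_pos_right hlt' (show (0 : ℤ) < co o by omega)]
        exact ⟨fun _ => this, this.le⟩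
    have hsum : ∑ o, (((h : ℤ) - 1) * (co o : ℤ) ^ 2 + 2 * z * e * co o) ≤ 0 := by
      have h1 := hStot
      rw [← Finset.sum_filter_add_sum_filter_not Finset.univ (fun χ => χ ∈ Sp),
        Finset.filter_mem_eq_inter, Finset.univ_inter] at h1
      rw [Finset.sum_image (fun x _ y _ h' => hμinj h'), Finset.sum_congr rfl (fun o _ => hSμ o),
        Finset.sum_add_distrib, Finset.sum_const, Finset.card_univ, ← ht, nsmul_eq_mul] at h1
      have hStm : St ∈ Finset.univ.filter fun χ => χ ∉ Sp :=
        Finset.mem_filter.2 ⟨Finset.mem_univ _, hSt_notMem⟩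
      rw [← Finset.add_sum_erase _ _ hStm, hSSt, zero_add] at h1
      have h2 := Finset.card_nsmul_le_sum ((Finset.univ.filter fun χ => χ ∉ Sp).erase St) S
        ((h : ℤ) - 1) (fun χ hχ => hlow χ
          (Finset.mem_filter.1 (Finset.mem_erase.1 hχ).2).2 (Finset.mem_erase.1 hχ).1)
      have h3 : (e : ℤ) ≤ (((Finset.univ.filter fun χ => χ ∉ Sp).erase St).card : ℤ) := by
        have e1 := Finset.card_erase_of_mem hStm
        have e2 : (Finset.univ.filter fun χ => χ ∉ Sp).card + t = Fintype.card (Cfsg.IrrCharacter G) := by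
          rw [← hSp, ← Finset.card_univ, add_comm,
            ← Finset.card_filter_add_card_filter_not (s := Finset.univ) (fun χ => χ ∈ Sp),
            Finset.filter_mem_eq_inter, Finset.univ_inter]
        exact_mod_cast (show e ≤ ((Finset.univ.filter fun χ => χ ∉ Sp).erase St).card by omega)
      rw [nsmul_eq_mul] at h2
      have h4 := mul_le_mul_of_nonneg_right h3 hh1
      have h5 : (t : ℤ) * e = (h : ℤ) - 1 := by
        have : (t : ℤ) * e + 1 = h := by exact_mod_cast hte
        omega
      have h6 : (t : ℤ) * ((e : ℤ) * ((h : ℤ) - e)) = ((h : ℤ) - 1) * ((h : ℤ) - e) := by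
        rw [← mul_assoc, h5]
      linarith
    intro o
    by_contra hne
    have h1 := (hstep o).1 (by exact_mod_cast hne)
    have h2 := Finset.single_le_sum (fun o _ => (hstep o).2) (Finset.mem_univ o)
    linarith
  -- a character of degree `e`
  obtain ⟨o⟩ : Nonempty (CA.Orb K) := Fintype.card_pos_iff.1 (by omega)
  have hde : d (μ o) = e := by
    have h1 := hdμ o
    rw [hc0 o, Nat.cast_zero, mul_zero, zero_add] at h1
    have := hdpos (μ o)
    rcases hz with rfl | rfl <;> omega
  have hnormμ : Cfsg.classInner (fun k : K => ((μ o : Cfsg.IrrCharacter G) : G → ℂ) k)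
      (fun k : K => ((μ o : Cfsg.IrrCharacter G) : G → ℂ) k) = e := by
    rw [hnorm]
    have h1 := hsqμ o
    rw [hc0 o, Nat.cast_zero] at h1
    have h2 : ∑ l, m (μ o) l ^ 2 = e := by
      have h3 : ∑ l, (m (μ o) l : ℤ) ^ 2 = (e : ℤ) := by rw [h1]; ring
      exact_mod_cast h3
    rw [hm0μ, h2]
    simp
  set χ : G → ℂ := ((μ o : Cfsg.IrrCharacter G) : G → ℂ) with hχdef
  have hχirr : Cfsg.IsIrrCharacter G χ := (μ o).2
  set Φ : G → ℂ := χ * fun g => conj (χ g) with hΦdef
  have hΦ : Cfsg.IsCharacter G Φ := Char.IsCharacter.mul (Char.IsIrrCharacter.isCharacter hχirr)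
    (Char.IsCharacter.conj_apply' (Char.IsIrrCharacter.isCharacter hχirr))
  obtain ⟨n, hn⟩ := Char.IsCharacter.exists_nat_combination hΦ
  have hn1 : n Char.principalIrr = 1 := by
    have h1 : Cfsg.classInner Φ (Char.principalIrr : Cfsg.IrrCharacter G) =
        (n Char.principalIrr : ℂ) := by
      rw [hn, Char.classInner_sum_smul_irr (fun ψ => (n ψ : ℂ)) Char.principalIrr]
    have h2 : Cfsg.classInner Φ (Char.principalIrr : Cfsg.IrrCharacter G) = Cfsg.classInner χ χ := by
      simp [Cfsg.classInner, hΦdef]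
    rw [h2, Char.classInner_irr_self hχirr] at h1
    exact_mod_cast h1.symm
  have hnm0 : ∑ ψ, n ψ * m0 ψ = e := by
    have hn' : (fun k : K => Φ k) =
        ∑ ψ : Cfsg.IrrCharacter G, (n ψ : ℂ) • (fun k : K => (ψ : G → ℂ) k) := by
      funext k
      have h1 := congrFun hn (k : G)
      simp only [Finset.sum_apply, Pi.smul_apply] at h1 ⊢
      exact h1
    have h1 : Cfsg.classInner (fun _ : K => (1 : ℂ)) (fun k : K => Φ k) =
        ((∑ ψ, n ψ * m0 ψ : ℕ) : ℂ) := by
      rw [hn', Char.classInner_sum_right, Nat.cast_sum]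
      refine Finset.sum_congr rfl fun ψ _ => ?_
      rw [Char.classInner_smul_right, hm0, Complex.conj_natCast, Nat.cast_mul]
    have h2 : Cfsg.classInner (fun _ : K => (1 : ℂ)) (fun k : K => Φ k) =
        Cfsg.classInner (fun k : K => χ k) (fun k : K => χ k) := by
      simp [Cfsg.classInner, hΦdef, mul_comm]
    rw [h2, hnormμ] at h1
    exact_mod_cast h1.symm
  have hnd : ∑ ψ, n ψ * d ψ = e * e := by
    have h1 := congrFun hn 1
    simp only [Finset.sum_apply, Pi.smul_apply, smul_eq_mul, hd, hΦdef, Pi.mul_apply, hχdef,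
      hde, Complex.conj_natCast] at h1
    exact_mod_cast h1.symm
  have hratio : ∀ ψ : Cfsg.IrrCharacter G, ψ ≠ Char.principalIrr →
      m0 ψ * (h + 1) ≤ 2 * d ψ := by
    intro ψ hψ
    have h1 := hm0sum ψ
    rw [if_neg (Ne.symm hψ), zero_add] at h1
    by_cases hψSt : St = ψ
    · subst hψSt
      rw [if_pos rfl, Finset.card_eq_zero.2 (Finset.filter_eq_empty_iff.2 fun l _ hl => by
        have h3 := (hLi l hl.1).2.2
        rw [show lam π l 1 = (St : G → ℂ) 1 from congrFun hl.2 1, hd, hdSt, hΩ] at h3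
        have : h = h + 1 := by exact_mod_cast h3
        omega)] at h1
      rw [Nat.cast_zero, add_zero] at h1
      have hm : m0 St = 1 := by exact_mod_cast h1
      rw [hm, hdSt]
      omega
    · rw [if_neg hψSt, zero_add] at h1
      have h2 : m0 ψ = (Finset.univ.filter
          fun l : Cfsg.IrrCharacter (pairStab (G := G) a b) =>
            l ≠ Char.principalIrr ∧ L l = (ψ : G → ℂ)).card := by exact_mod_cast h1
      rw [h2]
      rcases Nat.eq_zero_or_pos (Finset.univ.filter
          fun l : Cfsg.IrrCharacter (pairStab (G := G) a b) =>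
            l ≠ Char.principalIrr ∧ L l = (ψ : G → ℂ)).card with h0 | h0
      · rw [h0, zero_mul]; exact Nat.zero_le _
      obtain ⟨l, hl⟩ := Finset.card_pos.1 h0
      obtain ⟨-, hl1, hl2⟩ := Finset.mem_filter.1 hl
      have hdψ : d ψ = h + 1 := by
        have h3 := (hLi l hl1).2.2
        rw [show lam π l 1 = (ψ : G → ℂ) 1 from congrFun hl2 1, hd, hΩ] at h3
        exact_mod_cast h3
      rw [hdψ]
      refine Nat.mul_le_mul_right _ (le_trans (Finset.card_le_card (t := Finset.univ.filter
        fun l => L l = (ψ : G → ℂ)) (fun x hx => by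
          simp only [Finset.mem_filter, Finset.mem_univ, true_and] at hx ⊢; exact hx.2)) ?_)
      rw [← Fintype.card_subtype, ← Nat.card_eq_fintype_card]
      exact lam_fibre π hO hK hab hE hπK hπE (ψ : G → ℂ)
  have hm01 : m0 Char.principalIrr = 1 := by
    have h1 := hdsum Char.principalIrr
    have h2 := hm0sum Char.principalIrr
    rw [if_pos rfl, if_neg hSt1] at h2
    have h3 : m0 Char.principalIrr = 1 + (Finset.univ.filter
        fun l : Cfsg.IrrCharacter (pairStab (G := G) a b) =>
          l ≠ Char.principalIrr ∧ L l = (Char.principalIrr : Cfsg.IrrCharacter G).1).card := by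
      rw [add_zero] at h2
      exact_mod_cast h2
    omega
  rw [← Finset.add_sum_erase _ _ (Finset.mem_univ Char.principalIrr), hn1, hm01, one_mul] at hnm0
  rw [← Finset.add_sum_erase _ _ (Finset.mem_univ Char.principalIrr), hn1, hd1, one_mul] at hnd
  have hfinal : (∑ ψ ∈ Finset.univ.erase Char.principalIrr, n ψ * m0 ψ) * (h + 1) ≤
      2 * ∑ ψ ∈ Finset.univ.erase Char.principalIrr, n ψ * d ψ := by
    rw [Finset.sum_mul, Finset.mul_sum]
    refine Finset.sum_le_sum fun ψ hψ => ?_
    calc n ψ * m0 ψ * (h + 1) = n ψ * (m0 ψ * (h + 1)) := mul_assoc _ _ _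
      _ ≤ n ψ * (2 * d ψ) := Nat.mul_le_mul_left _ (hratio ψ (Finset.mem_erase.1 hψ).1)
      _ = 2 * (n ψ * d ψ) := by ring
  have h1 : (∑ ψ ∈ Finset.univ.erase Char.principalIrr, n ψ * m0 ψ) * (2 * e + 3) ≤
      (∑ ψ ∈ Finset.univ.erase Char.principalIrr, n ψ * m0 ψ) * (h + 1) :=
    Nat.mul_le_mul_left _ (by omega)
  nlinarith

theorem card_sub_two_le_aux (n : ℕ) : ∀ (G : Type u) [Group G] [Finite G] (Ω : Type v) [MulAction G Ω]
    [Fintype Ω], Nat.card G = n → Cfsg.IsZassenhausGroup G Ω → ∀ (a b : Ω), a ≠ b →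
    ∀ K : Subgroup G, Pre.IsKernel a K → (∀ x ∈ K, ∀ y ∈ K, x * y = y * x) →
    Odd (Nat.card ↥(stabilizer G a ⊓ stabilizer G b)) →
    Fintype.card Ω - 2 ≤ 2 * Nat.card ↥(stabilizer G a ⊓ stabilizer G b) := by
  induction n using Nat.strong_induction_on with
  | _ n ih =>
    intro G _ _ Ω _ _ hn hZ a b hab K hK hKc hodd
    by_cases hs : IsSimpleGroup G
    · exact simple_bound hZ hab hK hKc hodd
    have hP := Pre.of hZ
    obtain ⟨g, hg1, ga, gb⟩ := hP.exists_two_fix hab
    haveI : Nontrivial G := ⟨⟨g, 1, hg1⟩⟩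
    obtain ⟨N, hN, hNb, hNt⟩ : ∃ N : Subgroup G, N.Normal ∧ N ≠ ⊥ ∧ N ≠ ⊤ := by
      by_contra hall
      push Not at hall
      exact hs ⟨fun N hN => or_iff_not_imp_left.2 fun h => hall N hN h⟩
    haveI := hN
    have hZN := Pre.isZassenhausGroup_normal hZ N hNb
    obtain ⟨-, -, hker⟩ := Pre.normal_structure hZ N hNb
    have hKN : K ≤ N := hker a K hK
    have hK' : Pre.IsKernel a (K.subgroupOf N) :=
      { le := fun k hk => hK.le (k : G) hk
        conj_mem := fun g hg k hk => hK.conj_mem (g : G) hg (k : G) hk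
        fix := fun k hk h1 c hc => hK.fix (k : G) hk (fun h => h1 (Subtype.ext h)) c hc
        regular := fun y z hy hz => by
          obtain ⟨k, hk, hky⟩ := hK.regular y z hy hz
          exact ⟨⟨k, hKN hk⟩, hk, hky⟩
        mem := fun g hg h => hK.mem (g : G) hg h }
    have hlt : Nat.card N < n := by
      rw [← hn]
      exact lt_of_le_of_ne (Subgroup.card_le_card_group N) fun h => hNt (Subgroup.eq_top_of_card_eq N h)
    have hdvd : Nat.card ↥(stabilizer N a ⊓ stabilizer N b) ∣
        Nat.card ↥(stabilizer G a ⊓ stabilizer G b) := by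
      have h1 : (stabilizer N a ⊓ stabilizer N b).map N.subtype ≤ stabilizer G a ⊓ stabilizer G b := by
        rintro _ ⟨x, hx, rfl⟩
        exact ⟨hx.1, hx.2⟩
      have h2 := Subgroup.card_dvd_of_le h1
      rwa [Subgroup.card_map_of_injective N.subtype_injective] at h2
    have h1 := ih _ hlt N Ω rfl hZN a b hab (K.subgroupOf N) hK'
      (fun x hx y hy => Subtype.ext (hKc x hx y hy)) (hodd.of_dvd_nat hdvd)
    have := Nat.le_of_dvd hodd.pos hdvd
    omega

/-- An abelian kernel forces the two-point stabiliser to have order at least half the degree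
minus two. -/
theorem card_sub_two_le {G : Type u} [Group G] [Finite G] {Ω : Type v} [MulAction G Ω] [Fintype Ω]
    (hZ : Cfsg.IsZassenhausGroup G Ω) {a b : Ω} (hab : a ≠ b) {K : Subgroup G}
    (hK : Pre.IsKernel a K) (hKc : ∀ x ∈ K, ∀ y ∈ K, x * y = y * x)
    (hodd : Odd (Nat.card ↥(stabilizer G a ⊓ stabilizer G b))) :
    Fintype.card Ω - 2 ≤ 2 * Nat.card ↥(stabilizer G a ⊓ stabilizer G b) :=
  card_sub_two_le_aux _ G Ω rfl hZ a b hab K hK hKc hodd

end CfsgLib.ZassAbelian
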