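import Cfsg.Agent.Lib.CharExt.ZassChar
import Cfsg.Agent.Lib.CA.Chars
import Cfsg.Agent.Lib.Char.Complete
import Cfsg.Agent.Lib.Char.Virtual
import Cfsg.Agent.Lib.Zass.Simple
import Cfsg.Agent.S0157

/-!
# The principal series of a simple Zassenhaus group with odd two-point stabilisers
-/

set_option autoImplicit false
set_option linter.unusedSectionVars false
set_option linter.style.haveILetI false

open MulAction
open scoped ComplexConjugate

namespace CfsgLib.ZassAbelian

open CfsgLib CfsgLib.Zass CfsgLib.ZassOdd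

universe u v

variable {G : Type u} {Ω : Type v} [Group G] [MulAction G Ω] [Fintype Ω] [DecidableEq Ω]
  [Fintype G] {e : ℕ} {a b : Ω} {K : Subgroup G}

/-- The two-point stabiliser. -/
abbrev pairStab (a b : Ω) : Subgroup G := stabilizer G a ⊓ stabilizer G b

theorem selfCent_kernel (hP : Pre G Ω) (hK : Pre.IsKernel a K) (hb : b ≠ a)
    (hKc : ∀ x ∈ K, ∀ y ∈ K, x * y = y * x) : CA.SelfCent K := by
  have hne : K ≠ ⊥ := by
    intro h
    have h1 := hK.card hP
    rw [h, Subgroup.card_bot] at h1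
    have := hP.three_le_card
    omega
  refine ⟨hne, fun x hx hx1 => le_antisymm (fun g hg => ?_) fun g hg =>
    Subgroup.mem_centralizer_singleton_iff.2 (hKc g hg x hx)⟩
  have hc : g * x = x * g := Subgroup.mem_centralizer_singleton_iff.1 hg
  have hga : g • a = a := hK.fix x hx hx1 (g • a) (by rw [← mul_smul, ← hc, mul_smul, hK.le x hx])
  obtain ⟨k, hk, hk1, hk2⟩ := hK.exists_factor hb hga
  have hy : (k⁻¹ * g) * x = x * (k⁻¹ * g) := by
    calc k⁻¹ * g * x = k⁻¹ * x * g := by rw [mul_assoc, hc, mul_assoc]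
      _ = x * k⁻¹ * g := by rw [hKc k⁻¹ (K.inv_mem hk) x hx]
      _ = x * (k⁻¹ * g) := mul_assoc _ _ _
  by_cases h1 : k⁻¹ * g = 1
  · rw [← inv_mul_eq_one.1 h1]; exact hk
  · exact absurd (hK.eq_one_of_commute hP hb hk1 hk2 h1 hx hy) hx1

theorem selfCent_pairStab (hO : Odds G Ω e) (hab : a ≠ b)
    (hcomm : ∀ x ∈ pairStab (G := G) a b, ∀ y ∈ pairStab (G := G) a b, x * y = y * x) :
    CA.SelfCent (pairStab (G := G) a b) := by
  have hP := hO.pre
  refine ⟨fun h => ?_, fun x hx hx1 => le_antisymm (fun g hg => ?_) fun g hg =>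
    Subgroup.mem_centralizer_singleton_iff.2 (hcomm g hg x hx)⟩
  · obtain ⟨g, hg1, ga, gb⟩ := hP.exists_two_fix hab
    exact hg1 (Subgroup.mem_bot.1 (h ▸ (⟨ga, gb⟩ : g ∈ pairStab a b)))
  · have hc : g * x = x * g := Subgroup.mem_centralizer_singleton_iff.1 hg
    have ha : g • a = a ∨ g • a = b := hP.eq_or_eq hx1 hab hx.1 hx.2 (by
      rw [← mul_smul, ← hc, mul_smul, show x • a = a from hx.1])
    have hb : g • b = a ∨ g • b = b := hP.eq_or_eq hx1 hab hx.1 hx.2 (by
      rw [← mul_smul, ← hc, mul_smul, show x • b = b from hx.2])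
    rcases ha with ha | ha
    · rcases hb with hb | hb
      · exact absurd (MulAction.injective g (ha.trans hb.symm)) hab
      · exact ⟨ha, hb⟩
    · exfalso
      rcases hb with hb | hb
      · have h1 := hO.inverts a b hab g ha hb x hx.1 hx.2
        rw [hc, mul_inv_cancel_right] at h1
        exact hx1 (hO.eq_one_of_sq hab hx.1 hx.2 (by
          nth_rewrite 2 [h1]; exact mul_inv_cancel x))
      · exact hab (MulAction.injective g (ha.trans hb.symm))

/-- The projection of a point stabiliser onto a two-point stabiliser along the kernel. -/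
theorem exists_proj (hP : Pre G Ω) (hK : Pre.IsKernel a K) (hb : b ≠ a) :
    ∃ π : stabilizer G a →* pairStab (G := G) a b,
      (∀ g : stabilizer G a, π g = 1 ↔ (g : G) ∈ K) ∧
        ∀ g : stabilizer G a, (g : G) • b = b → (π g : G) = g := by
  have hex : ∀ g : stabilizer G a, ∃ y : pairStab (G := G) a b, (g : G) * (y : G)⁻¹ ∈ K := by
    intro g
    obtain ⟨k, hk, h1, h2⟩ := hK.exists_factor hb (g := (g : G)) g.2
    exact ⟨⟨k⁻¹ * g, h1, h2⟩, by simpa using hk⟩
  choose π hπ using hex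
  have huniq : ∀ (g : stabilizer G a) (y : pairStab (G := G) a b), (g : G) * (y : G)⁻¹ ∈ K →
      π g = y := by
    intro g y hy
    have h1 : (π g : G) * (y : G)⁻¹ ∈ K := by
      have := K.mul_mem (K.inv_mem (hπ g)) hy
      simpa [mul_assoc] using this
    by_contra hne
    refine hb (hK.fix _ h1 (fun h => hne (Subtype.ext (mul_inv_eq_one.1 h))) b ?_)
    exact (π g * y⁻¹ : pairStab (G := G) a b).2.2
  refine ⟨MonoidHom.mk' π fun g g' => huniq _ _ ?_, fun g => ⟨fun h => ?_, fun h => ?_⟩,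
    fun g hg => ?_⟩
  · have h1 := hK.conj_mem (π g : G) (π g).2.1 _ (hπ g')
    have h2 := K.mul_mem (hπ g) h1
    simpa [mul_assoc] using h2
  · have := hπ g
    rw [show π g = 1 from h] at this
    simpa using this
  · exact huniq g 1 (by simpa using h)
  · exact congrArg Subtype.val (huniq g ⟨g, g.2, hg⟩ (by simp))

section Series

variable (π : stabilizer G a →* pairStab (G := G) a b)

/-- The character of `G` induced from a character of the two-point stabiliser. -/
noncomputable def lam (l : Cfsg.IrrCharacter (pairStab (G := G) a b)) : G → ℂ :=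
  Cfsg.indFun (stabilizer G a) fun g => (l : pairStab (G := G) a b → ℂ) (π g)

variable (hO : Odds G Ω e) (hK : Pre.IsKernel a K) (hab : a ≠ b)
  (hE : CA.SelfCent (pairStab (G := G) a b))
  (hπK : ∀ g : stabilizer G a, π g = 1 ↔ (g : G) ∈ K)
  (hπE : ∀ g : stabilizer G a, (g : G) • b = b → (π g : G) = g)

include hO hK hab hE hπK hπE

theorem lam_apply_pair (l : Cfsg.IrrCharacter (pairStab (G := G) a b)) (y : pairStab (G := G) a b)
    (hy : y ≠ 1) :
    lam π l (y : G) = (l : pairStab (G := G) a b → ℂ) y + (l : pairStab (G := G) a b → ℂ) y⁻¹ := by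
  have hP := hO.pre
  set θ : stabilizer G a → ℂ := fun g => (l : pairStab (G := G) a b → ℂ) (π g) with hθ
  have hθcl : Cfsg.IsClassFunction (stabilizer G a) θ := fun g h => by
    obtain ⟨f, hf⟩ := CA.exists_hom hE l
    simp only [hθ, hf, map_mul, map_inv, Units.val_mul]
    rw [mul_right_comm, ← Units.val_mul, mul_inv_cancel, Units.val_one, one_mul]
  have hsw : ∀ c : Ω, ∃ v : G, v • a = c ∧ (c = a → v = 1) ∧ (c ≠ a → v • c = a) := by
    intro c
    by_cases hca : c = a
    · exact ⟨1, by rw [hca, one_smul], fun _ => rfl, fun h => absurd hca h⟩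
    · obtain ⟨v, va, vb⟩ := hO.exists_swap (Ne.symm hca)
      exact ⟨v, va, fun h => absurd h hca, fun _ => vb⟩
  choose w hw hw1 hw2 using hsw
  have hy1 : (y : G) ≠ 1 := fun h => hy (Subtype.ext h)
  have hfs : fixPts (y : G) = ({a, b} : Finset Ω) := by
    ext d
    rw [mem_fixPts, Finset.mem_insert, Finset.mem_singleton]
    refine ⟨fun hd => hP.eq_or_eq hy1 hab y.2.1 y.2.2 hd, ?_⟩
    rintro (rfl | rfl)
    · exact y.2.1
    · exact y.2.2
  have hinv : (w b)⁻¹ * (y : G) * w b = (y : G)⁻¹ := by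
    have h := hO.inverts a b hab (w b) (hw b) (hw2 b hab.symm) y y.2.1 y.2.2
    have hvv := inv_eq_of_mul_eq_one_right (hO.swap_sq hab (hw b) (hw2 b hab.symm)).1
    rw [hvv] at h ⊢
    exact h
  rw [lam, indFun_eq_sum_fix (fun c => ⟨w c, hw c⟩) θ hθcl w hw, hfs, Finset.sum_pair hab,
    hw1 a rfl, inv_one, one_mul, mul_one, hinv]
  have e1 : π ⟨y, y.2.1⟩ = y := Subtype.ext (hπE ⟨y, y.2.1⟩ y.2.2)
  have e2 : π ⟨(y : G)⁻¹, (stabilizer G a).inv_mem y.2.1⟩ = y⁻¹ :=
    Subtype.ext (hπE ⟨(y : G)⁻¹, (stabilizer G a).inv_mem y.2.1⟩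
      ((stabilizer G b).inv_mem y.2.2))
  rw [Char.extendByZero_apply_mem _ _ (show (y : G) ∈ stabilizer G a from y.2.1),
    Char.extendByZero_apply_mem _ _ (show (y : G)⁻¹ ∈ stabilizer G a from
      (stabilizer G a).inv_mem y.2.1)]
  simp only [hθ, e1, e2]

theorem lam_irr (l : Cfsg.IrrCharacter (pairStab (G := G) a b)) (hl : l ≠ Char.principalIrr) :
    Cfsg.IsIrrCharacter G (lam π l) ∧ (∀ u ∈ K, u ≠ 1 → lam π l u = 1) ∧
      lam π l 1 = (Fintype.card Ω : ℂ) := by
  have hP := hO.pre
  obtain ⟨f, hf⟩ := CA.exists_hom hE l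
  have hfun : lam π l = Cfsg.indFun (stabilizer G a) fun g => ((f.comp π) g : ℂ) := by
    simp [lam, hf]
  have hne : f.comp π ≠ 1 := by
    intro h
    apply hl
    refine Subtype.ext (funext fun y => ?_)
    have := congrArg (fun z : ℂˣ => (z : ℂ)) (DFunLike.congr_fun h ⟨y, y.2.1⟩)
    simp only [MonoidHom.comp_apply, MonoidHom.one_apply, Units.val_one] at this
    rw [hf, Char.principalIrr_apply]
    rwa [show π ⟨y, y.2.1⟩ = y from Subtype.ext (hπE ⟨y, y.2.1⟩ y.2.2)] at this
  obtain ⟨h1, h2⟩ := hO.indFun_linear (H := K)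
    (fun g hg => ⟨fun hgK => or_iff_not_imp_left.2 fun h1 => hK.fix g hgK h1, fun h => by
      rcases h with rfl | h
      · exact K.one_mem
      · exact hK.mem g hg h⟩)
    (fun k hk => hK.le k hk) (f.comp π)
    (fun u hu => by rw [MonoidHom.comp_apply, (hπK u).2 hu, map_one]) hne
  refine ⟨hfun ▸ h1, fun u hu hu1 => hfun ▸ h2 u hu hu1, ?_⟩
  haveI := hP.isPretransitive
  rw [hfun, Char.indFun_apply_one, map_one, Units.val_one, mul_one,
    MulAction.index_stabilizer_of_transitive, Nat.card_eq_fintype_card]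

theorem lam_one_eq (g : G) :
    lam π Char.principalIrr g = ((fixPts g : Finset Ω).card : ℂ) := by
  have hsw : ∀ c : Ω, ∃ v : G, v • a = c := fun c => hO.pre.transitive a c
  choose w hw using hsw
  rw [lam, indFun_eq_sum_fix (fun c => ⟨w c, hw c⟩) _ (fun _ _ => by simp) w hw,
    Finset.sum_congr rfl (fun c hc => ?_), Finset.sum_const, nsmul_one]
  rw [Char.extendByZero_apply_mem]
  · exact Char.principalIrr_apply _
  · rw [mem_stabilizer_iff, mul_smul, mul_smul, hw, mem_fixPts.1 hc, inv_smul_eq_iff, hw]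

/-- The Steinberg character. -/
theorem steinberg_irr :
    Cfsg.IsIrrCharacter G (fun g : G => ((fixPts g : Finset Ω).card : ℂ) - 1) := by
  have hP := hO.pre
  haveI := hP.isPretransitive
  have h3 := hP.three_le_card
  have h := (Cfsg.Agent.S0157.result (G := G) Ω (by rw [Nat.card_eq_fintype_card]; omega)).2 hP.two
  have e1 : ∀ g : G, Nat.card (fixedBy Ω g) = (fixPts g : Finset Ω).card := fun g =>
    Nat.subtype_card _ fun c => by rw [mem_fixPts]; rfl
  simpa only [e1] using h

/-- Trivial multiplicities on the kernel through the series. -/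
theorem classInner_one_res [Fintype K]
    {χ : G → ℂ} (hχ : Cfsg.IsClassFunction G χ) :
    Cfsg.classInner (fun _ : K => (1 : ℂ)) (fun k : K => χ k) =
      ∑ l : Cfsg.IrrCharacter (pairStab (G := G) a b), Cfsg.classInner (lam π l) χ := by
  classical
  haveI := Fintype.ofFinite (pairStab (G := G) a b)
  have hcol : ∀ y : pairStab (G := G) a b,
      ∑ l : Cfsg.IrrCharacter (pairStab (G := G) a b), (l : pairStab (G := G) a b → ℂ) y =
        if y = 1 then (Nat.card (pairStab (G := G) a b) : ℂ) else 0 := by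
    intro y
    have h := CA.colA hE y 1
    simp only [CA.irr_apply_one hE, map_one, mul_one] at h
    exact h
  simp only [lam, Char.classInner_indFun _ _ _ hχ]
  simp only [Cfsg.classInner, one_mul]
  rw [← Finset.mul_sum, Finset.sum_comm]
  simp only [← Finset.sum_mul, hcol, hπK]
  rw [show (∑ g : stabilizer G a, (if (g : G) ∈ K then
      (Nat.card (pairStab (G := G) a b) : ℂ) else 0) * conj (χ g)) =
      (Nat.card (pairStab (G := G) a b) : ℂ) * ∑ k : K, conj (χ k) from ?_]
  · have hP := hO.pre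
    have hB : Nat.card (stabilizer G a) = Nat.card K * Nat.card (pairStab (G := G) a b) := by
      have h1 := hP.card_stabilizer hab
      have h2 := hK.card hP
      rw [h1, show Fintype.card Ω - 1 = Nat.card K by omega]
    rw [hB, Nat.cast_mul]
    have h0 : (Nat.card (pairStab (G := G) a b) : ℂ) ≠ 0 := Nat.cast_ne_zero.2 Nat.card_pos.ne'
    have h1 : (Nat.card K : ℂ) ≠ 0 := Nat.cast_ne_zero.2 Nat.card_pos.ne'
    field_simp
  · rw [Finset.mul_sum]
    simp only [ite_mul, zero_mul]
    rw [← Finset.sum_filter]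
    refine Finset.sum_bij' (fun g hg => (⟨g, (Finset.mem_filter.1 hg).2⟩ : K))
      (fun k _ => (⟨k, hK.le k k.2⟩ : stabilizer G a)) (fun _ _ => Finset.mem_univ _)
      (fun k _ => Finset.mem_filter.2 ⟨Finset.mem_univ _, k.2⟩) (fun _ _ => rfl) (fun _ _ => rfl)
      (fun _ _ => rfl)

/-- Two members of the series coincide only for a character and its inverse. -/
theorem lam_fibre [IsCyclic (pairStab (G := G) a b)] (χ : G → ℂ) :
    Nat.card {l : Cfsg.IrrCharacter (pairStab (G := G) a b) // lam π l = χ} ≤ 2 := by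
  classical
  haveI := Fintype.ofFinite (pairStab (G := G) a b)
  obtain ⟨y, hy⟩ := IsCyclic.exists_generator (α := pairStab (G := G) a b)
  have hy1 : y ≠ 1 := by
    intro h
    refine hE.ne_bot ((Subgroup.eq_bot_iff_forall _).2 fun z hz => ?_)
    have := hy ⟨z, hz⟩
    rw [h, Subgroup.zpowers_one_eq_bot, Subgroup.mem_bot] at this
    exact congrArg Subtype.val this
  by_cases hne : Nonempty {l : Cfsg.IrrCharacter (pairStab (G := G) a b) // lam π l = χ}
  swap
  · haveI := not_nonempty_iff.1 hne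
    simp
  obtain ⟨⟨l, hl⟩⟩ := hne
  obtain ⟨f, hf⟩ := CA.exists_hom hE l
  have hsub : ∀ m : {l : Cfsg.IrrCharacter (pairStab (G := G) a b) // lam π l = χ},
      (m.1 : pairStab (G := G) a b → ℂ) y ∈ ({(f y : ℂ), (f y : ℂ)⁻¹} : Finset ℂ) := by
    intro m
    obtain ⟨f', hf'⟩ := CA.exists_hom hE m.1
    have h := congrFun (m.2.trans hl.symm) (y : G)
    rw [lam_apply_pair π hO hK hab hE hπK hπE _ y hy1,
      lam_apply_pair π hO hK hab hE hπK hπE _ y hy1] at h
    simp only [hf, hf', map_inv, Units.val_inv_eq_inv_val] at h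
    rw [hf', Finset.mem_insert, Finset.mem_singleton]
    have h0 : (f y : ℂ) ≠ 0 := Units.ne_zero _
    have h0' : (f' y : ℂ) ≠ 0 := Units.ne_zero _
    have h2 : ((f' y : ℂ) - f y) * ((f' y : ℂ) - (f y : ℂ)⁻¹) = 0 := by
      field_simp at h ⊢
      linear_combination h
    rcases mul_eq_zero.1 h2 with h3 | h3
    · exact Or.inl (sub_eq_zero.1 h3)
    · exact Or.inr (sub_eq_zero.1 h3)
  refine le_trans (Nat.card_le_card_of_injective (fun m => (⟨_, hsub m⟩ :
    {z : ℂ // z ∈ ({(f y : ℂ), (f y : ℂ)⁻¹} : Finset ℂ)})) ?_) ?_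
  · intro m n hmn
    have h : (m.1 : pairStab (G := G) a b → ℂ) y = (n.1 : pairStab (G := G) a b → ℂ) y :=
      congrArg Subtype.val hmn
    obtain ⟨f₁, hf₁⟩ := CA.exists_hom hE m.1
    obtain ⟨f₂, hf₂⟩ := CA.exists_hom hE n.1
    have h12 : f₁ = f₂ := by
      refine MonoidHom.ext fun z => ?_
      obtain ⟨i, rfl⟩ := hy z
      rw [map_zpow, map_zpow]
      congr 1
      exact Units.ext (by rw [← hf₁, ← hf₂, h])
    refine Subtype.ext (Subtype.ext (funext fun z => ?_))
    rw [hf₁, hf₂, h12]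
  · rw [Nat.card_eq_finsetCard]
    exact Finset.card_le_two

end Series

end CfsgLib.ZassAbelian
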